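import Mathlib
import Groth.Prelude.Def_AlgGrp

/-!
# Extensions of group schemes with the Néron lft property: formal part

Adjunction reformulation of "restriction to the generic fibre is bijective", kernel points,
and smoothness of a flat surjective homomorphism with smooth kernel.
-/

universe u
open CategoryTheory MonoidalCategory CartesianMonoidalCategory MonObj AlgebraicGeometry Limits

namespace Groth.Agent.Lib.Helper24.NeronExt

section Adj
variable {C D : Type*} [Category C] [Category D] {L : D ⥤ C} {F : C ⥤ D} (adj : L ⊣ F)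

lemma map_eq_homEquiv (Y G : C) (g : Y ⟶ G) :
    F.map g = adj.homEquiv (F.obj Y) G (adj.counit.app Y ≫ g) := by
  simp [Adjunction.homEquiv_unit]

lemma bijective_map_iff (Y G : C) :
    Function.Bijective (fun g : Y ⟶ G => F.map g) ↔
      Function.Bijective (fun g : Y ⟶ G => adj.counit.app Y ≫ g) := by
  have : (fun g : Y ⟶ G => F.map g) =
      (adj.homEquiv (F.obj Y) G) ∘ (fun g : Y ⟶ G => adj.counit.app Y ≫ g) := by
    funext g; exact map_eq_homEquiv adj Y G g
  rw [this]
  exact (adj.homEquiv (F.obj Y) G).comp_bijective _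

end Adj

variable {S : Scheme.{u}}

section Kernel
variable {G' G G'' : Over S} [GrpObj G'] [GrpObj G] [GrpObj G'']
  {i : G' ⟶ G} {q : G ⟶ G''} [IsMonHom i] [IsMonHom q]

lemma mono_of_isKernel (hker : AlgGrp.IsKernel i q) : Mono i := by
  constructor
  intro Z a b hab
  exact hker.hom_ext hab (toUnit_unique _ _)

lemma exists_of_comp_eq_one (hker : AlgGrp.IsKernel i q) {T : Over S} (h : T ⟶ G)
    (hq : h ≫ q = 1) : ∃ n : T ⟶ G', n ≫ i = h := by
  refine ⟨hker.lift h (toUnit T) ?_, hker.lift_fst _ _ _⟩
  rw [hq]; rfl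

lemma comp_i_comp_q (hker : AlgGrp.IsKernel i q) {T : Over S} (n : T ⟶ G') :
    (n ≫ i) ≫ q = 1 := by
  rw [Category.assoc, hker.w, ← Category.assoc, toUnit_unique (n ≫ toUnit G') (toUnit T)]
  rfl

end Kernel

end Groth.Agent.Lib.Helper24.NeronExt
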