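import Mathlib
import Groth.Prelude.Def_AlgGrp
import Groth.Agent.Lib.Helper24.NeronExt.Basic

/-!
# A flat surjective homomorphism with smooth kernel is smooth
-/

universe u
open CategoryTheory MonoidalCategory CartesianMonoidalCategory MonObj AlgebraicGeometry Limits

namespace Groth.Agent.Lib.Helper24.NeronExt

/-- cancellation for morphisms locally of finite presentation (copied from helper13) -/
theorem locallyOfFinitePresentation_of_comp {X Y Z : Scheme.{u}} (f : X ⟶ Y) (g : Y ⟶ Z)
    [LocallyOfFinitePresentation (f ≫ g)] [LocallyOfFiniteType g] :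
    LocallyOfFinitePresentation f := by
  rw [HasRingHomProperty.iff_exists_appLE (P := @LocallyOfFinitePresentation)
    (RingHom.finitePresentation_stableUnderComposition.stableUnderCompositionWithLocalizationAway
      RingHom.finitePresentation_holdsForLocalizationAway).left]
  intro x
  obtain ⟨_, ⟨Z0, hZ0, rfl⟩, hxZ0, -⟩ :=
    Z.isBasis_affineOpens.exists_subset_of_mem_open (Set.mem_univ (g (f x))) isOpen_univ
  obtain ⟨V, hV, hxV, hVZ0⟩ := exists_isAffineOpen_mem_and_subset (x := f x) (U := g ⁻¹ᵁ Z0) hxZ0
  obtain ⟨W, hW, hxW, hWV⟩ := exists_isAffineOpen_mem_and_subset (x := x) (U := f ⁻¹ᵁ V) hxV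
  refine ⟨⟨V, hV⟩, ⟨W, hW⟩, hxW, hWV, ?_⟩
  have h1 := (f ≫ g).finitePresentation_appLE hZ0 hW
    (hWV.trans ((TopologicalSpace.Opens.map f.base).map (homOfLE hVZ0)).le)
  rw [← Scheme.Hom.appLE_comp_appLE f g Z0 V W hVZ0 hWV, CommRingCat.hom_comp] at h1
  exact RingHom.FinitePresentation.of_comp_finiteType _ h1 (g.finiteType_appLE hZ0 hV hVZ0)

variable {S : Scheme.{u}}

section
variable {G' G G'' : Over S} [GrpObj G'] [GrpObj G] [GrpObj G'']
  {i : G' ⟶ G} {q : G ⟶ G''} [IsMonHom i] [IsMonHom q]

/-- The "shear" map `(g, n) ↦ g * i n`. -/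
noncomputable def shear (i : G' ⟶ G) : G ⊗ G' ⟶ G := fst G G' * (snd G G' ≫ i)

lemma isPullback_shear (hker : AlgGrp.IsKernel i q) :
    IsPullback (fst G G') (shear i) q q := by
  haveI := mono_of_isKernel hker
  have hw : fst G G' ≫ q = shear i ≫ q := by
    rw [shear, MonObj.mul_comp, comp_i_comp_q hker, _root_.mul_one]
  refine IsPullback.of_isLimit (c := PullbackCone.mk _ _ hw) ?_
  have hex : ∀ s : PullbackCone q q, ∃ n : s.pt ⟶ G', n ≫ i = s.fst⁻¹ * s.snd := by
    intro s
    refine exists_of_comp_eq_one hker _ ?_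
    rw [MonObj.mul_comp, GrpObj.inv_comp, s.condition, inv_mul_cancel]
  refine PullbackCone.IsLimit.mk hw (fun s => lift s.fst (hex s).choose) ?_ ?_ ?_
  · intro s; simp
  · intro s
    rw [shear, MonObj.comp_mul, lift_fst, lift_snd_assoc, (hex s).choose_spec]
    group
  · intro s m h1 h2
    apply CartesianMonoidalCategory.hom_ext
    · rw [lift_fst, h1]
    · rw [lift_snd, ← cancel_mono i, (hex s).choose_spec, ← h1, ← h2, shear, MonObj.comp_mul,
        Category.assoc]
      group

set_option backward.isDefEq.respectTransparency.types false in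
lemma smooth_of_isKernel (hker : AlgGrp.IsKernel i q) [Smooth G'.hom]
    [LocallyOfFinitePresentation G.hom] [LocallyOfFiniteType G''.hom]
    [Flat q.left] [Surjective q.left] : Smooth q.left := by
  haveI : LocallyOfFinitePresentation (q.left ≫ G''.hom) := by rw [Over.w]; infer_instance
  haveI : LocallyOfFinitePresentation q.left := locallyOfFinitePresentation_of_comp q.left G''.hom
  have h := (isPullback_shear hker).map (Over.forget S)
  have hfst : Smooth ((Over.forget S).map (fst G G')) := by
    change Smooth (pullback.fst G.hom G'.hom)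
    infer_instance
  exact MorphismProperty.of_isPullback_of_descendsAlong (P := @Smooth)
    (Q := @Surjective ⊓ @Flat ⊓ @LocallyOfFinitePresentation) h
    ⟨⟨inferInstanceAs (Surjective q.left), inferInstanceAs (Flat q.left)⟩,
      inferInstanceAs (LocallyOfFinitePresentation q.left)⟩ hfst

end

end Groth.Agent.Lib.Helper24.NeronExt
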