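import Mathlib
import Groth.Prelude.Def_AlgGrp
import Groth.Agent.Lib.Helper24.NeronExt.Basic
import Groth.Agent.Lib.Helper24.NeronExt.SmoothQ

/-!
# Extensions of group schemes with the Néron lft property
-/

universe u
open CategoryTheory MonoidalCategory CartesianMonoidalCategory MonObj AlgebraicGeometry Limits

namespace Groth.Agent.Lib.Helper24.NeronExt

variable {S T : Scheme.{u}} (j : T ⟶ S)

/-- The `j`-fibre of `Y`, as an object over `S`. -/
noncomputable abbrev gen (Y : Over S) : Over S := (Over.map j).obj ((Over.pullback j).obj Y)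

/-- The inclusion of the `j`-fibre. -/
noncomputable abbrev ε (Y : Over S) : gen j Y ⟶ Y := (Over.mapPullbackAdj j).counit.app Y

/-- Functoriality of the `j`-fibre. -/
noncomputable abbrev genMap {Y Z : Over S} (f : Y ⟶ Z) : gen j Y ⟶ gen j Z :=
  (Over.map j).map ((Over.pullback j).map f)

lemma genMap_ε {Y Z : Over S} (f : Y ⟶ Z) : genMap j f ≫ ε j Z = ε j Y ≫ f :=
  (Over.mapPullbackAdj j).counit.naturality f

lemma genMap_comp {Y Z W : Over S} (f : Y ⟶ Z) (g : Z ⟶ W) :
    genMap j (f ≫ g) = genMap j f ≫ genMap j g := by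
  simp [genMap]

/-- The mapping property: restriction to the `j`-fibre is bijective on morphisms from smooth
`S`-schemes. -/
def NProp (G : Over S) : Prop :=
  ∀ Y : Over S, Smooth Y.hom → Function.Bijective (fun g : Y ⟶ G => ε j Y ≫ g)

lemma nProp_iff (G : Over S) :
    NProp j G ↔ ∀ Y : Over S, Smooth Y.hom →
      Function.Bijective (fun g : Y ⟶ G => (Over.pullback j).map g) := by
  refine forall_congr' fun Y => forall_congr' fun _ => ?_
  exact (bijective_map_iff (Over.mapPullbackAdj j) Y G).symm

section Torsor
variable {Y G G'' : Over S} (v : Y ⟶ G'') (q : G ⟶ G'')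

/-- The pullback `Y ×_{G''} G`, as an object over `S`. -/
noncomputable def P : Over S := Over.mk (pullback.fst v.left q.left ≫ Y.hom)

/-- The projection `P ⟶ Y`. -/
noncomputable def π : P v q ⟶ Y := Over.homMk (pullback.fst v.left q.left) rfl

/-- The projection `P ⟶ G`. -/
noncomputable def ρ : P v q ⟶ G := Over.homMk (pullback.snd v.left q.left) (by
  change pullback.snd v.left q.left ≫ G.hom = pullback.fst v.left q.left ≫ Y.hom
  rw [← Over.w q, ← pullback.condition_assoc, Over.w v])

lemma π_v : π v q ≫ v = ρ v q ≫ q := Over.OverMorphism.ext pullback.condition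

/-- The kernel pair of `π`, as an object over `S`. -/
noncomputable def Z : Over S :=
  Over.mk (pullback.fst (π v q).left (π v q).left ≫ (P v q).hom)

/-- first projection of the kernel pair -/
noncomputable def pr1 : Z v q ⟶ P v q := Over.homMk (pullback.fst (π v q).left (π v q).left) rfl

/-- second projection of the kernel pair -/
noncomputable def pr2 : Z v q ⟶ P v q := Over.homMk (pullback.snd (π v q).left (π v q).left) (by
  change pullback.snd (π v q).left (π v q).left ≫ (P v q).hom =
    pullback.fst (π v q).left (π v q).left ≫ (P v q).hom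
  rw [← Over.w (π v q), ← pullback.condition_assoc])

lemma pr_π : pr1 v q ≫ π v q = pr2 v q ≫ π v q := Over.OverMorphism.ext pullback.condition

end Torsor

/-- The base change of `π.left` to the `j`-fibres. -/
lemma isPullback_genMap {P Y : Over S} (π : P ⟶ Y) :
    IsPullback (genMap j π).left (pullback.fst P.hom j) (pullback.fst Y.hom j) π.left := by
  have hleft : (genMap j π).left = ((Over.pullback j).map π).left := rfl
  have h1 : ((Over.pullback j).map π).left ≫ pullback.fst Y.hom j =
      pullback.fst P.hom j ≫ π.left := pullback.lift_fst _ _ _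
  have h2 : ((Over.pullback j).map π).left ≫ pullback.snd Y.hom j = pullback.snd P.hom j :=
    pullback.lift_snd _ _ _
  rw [hleft]
  refine IsPullback.of_right ?_ h1 (IsPullback.of_hasPullback Y.hom j).flip
  rw [h2]
  rw [Over.w π]
  exact (IsPullback.of_hasPullback P.hom j).flip

lemma epi_genMap {P Y : Over S} (π : P ⟶ Y) [Flat π.left] [Surjective π.left]
    [LocallyOfFinitePresentation π.left] : Epi (genMap j π) := by
  have sq := (isPullback_genMap j π).flip
  haveI : Flat (genMap j π).left := MorphismProperty.of_isPullback (P := @Flat) sq inferInstance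
  haveI : Surjective (genMap j π).left :=
    MorphismProperty.of_isPullback (P := @Surjective) sq inferInstance
  haveI : LocallyOfFinitePresentation (genMap j π).left :=
    MorphismProperty.of_isPullback (P := @LocallyOfFinitePresentation) sq inferInstance
  haveI : Epi (genMap j π).left := inferInstance
  exact (Over.forget S).epi_of_epi_map (by simpa using this)

section Main
variable {G' G G'' : Over S} [GrpObj G'] [GrpObj G] [GrpObj G'']
  {i : G' ⟶ G} {q : G ⟶ G''} [IsMonHom i] [IsMonHom q]

lemma injective_of (hker : AlgGrp.IsKernel i q) (hG' : NProp j G') (hG'' : NProp j G'')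
    (Y : Over S) (hY : Smooth Y.hom) :
    Function.Injective (fun g : Y ⟶ G => ε j Y ≫ g) := by
  haveI := mono_of_isKernel hker
  intro g1 g2 h
  simp only at h
  have hq : g1 ≫ q = g2 ≫ q := by
    apply (hG'' Y hY).1
    simp only [← Category.assoc, h]
  obtain ⟨n, hn⟩ := exists_of_comp_eq_one hker (g1 * g2⁻¹) (by
    rw [MonObj.mul_comp, GrpObj.inv_comp, hq, mul_inv_cancel])
  have hn1 : n = 1 := by
    apply (hG' Y hY).1
    simp only
    rw [← cancel_mono i, Category.assoc, hn, MonObj.comp_mul, GrpObj.comp_inv, h, mul_inv_cancel,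
      MonObj.comp_one, MonObj.one_comp]
  rw [hn1, MonObj.one_comp] at hn
  exact (mul_inv_eq_one.mp hn.symm)

lemma surjective_of (hker : AlgGrp.IsKernel i q) (hG' : NProp j G') (hG'' : NProp j G'')
    [Smooth q.left] [Surjective q.left]
    (Y : Over S) (hY : Smooth Y.hom) :
    Function.Surjective (fun g : Y ⟶ G => ε j Y ≫ g) := by
  haveI := mono_of_isKernel hker
  intro u
  -- step 1: extend `u ≫ q`
  obtain ⟨v, hv⟩ := (hG'' Y hY).2 (u ≫ q)
  simp only at hv
  -- step 2: the torsor
  haveI hπs : Smooth (π v q).left := by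
    change Smooth (pullback.fst v.left q.left); infer_instance
  haveI hπsurj : Surjective (π v q).left := by
    change Surjective (pullback.fst v.left q.left); infer_instance
  have hP : Smooth (P v q).hom := by
    change Smooth (pullback.fst v.left q.left ≫ Y.hom); infer_instance
  -- step 3: the difference on the fibre
  set a : gen j (P v q) ⟶ G := (ε j (P v q) ≫ ρ v q)⁻¹ * (genMap j (π v q) ≫ u) with ha
  have haq : a ≫ q = 1 := by
    rw [ha, MonObj.mul_comp, GrpObj.inv_comp, Category.assoc, ← π_v, Category.assoc, ← hv,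
      ← Category.assoc (genMap j (π v q)), genMap_ε, Category.assoc, inv_mul_cancel]
  obtain ⟨wK, hwK⟩ := exists_of_comp_eq_one hker a haq
  obtain ⟨w, hw⟩ := (hG' (P v q) hP).2 wK
  simp only at hw
  -- step 4: the corrected map
  set ψ : P v q ⟶ G := ρ v q * (w ≫ i) with hψ
  have hψε : ε j (P v q) ≫ ψ = genMap j (π v q) ≫ u := by
    rw [hψ, MonObj.comp_mul, ← Category.assoc, hw, hwK, ha, mul_inv_cancel_left]
  -- step 5: descent data
  have hZ : Smooth (Z v q).hom := by
    change Smooth (pullback.fst (π v q).left (π v q).left ≫ (P v q).hom); infer_instance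
  have hpr : pr1 v q ≫ ψ = pr2 v q ≫ ψ := by
    apply injective_of j hker hG' hG'' (Z v q) hZ
    simp only
    rw [← Category.assoc, ← genMap_ε, Category.assoc, hψε, ← Category.assoc, ← genMap_comp,
      ← Category.assoc (ε j (Z v q)), ← genMap_ε j (pr2 v q), Category.assoc, hψε,
      ← Category.assoc, ← genMap_comp, pr_π]
  -- step 6: descend
  have hdesc : ∀ {W : Scheme.{u}} (g₁ g₂ : W ⟶ (P v q).left),
      g₁ ≫ (π v q).left = g₂ ≫ (π v q).left → g₁ ≫ ψ.left = g₂ ≫ ψ.left := by
    intro W g₁ g₂ h
    let l : W ⟶ (Z v q).left := pullback.lift g₁ g₂ h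
    have e1 : l ≫ (pr1 v q).left = g₁ := pullback.lift_fst _ _ _
    have e2 : l ≫ (pr2 v q).left = g₂ := pullback.lift_snd _ _ _
    have key := congrArg (fun t => l ≫ t.left) hpr
    simp only [Over.comp_left] at key
    rw [← Category.assoc, ← Category.assoc, e1, e2] at key
    exact key
  let g0 : Y.left ⟶ G.left := EffectiveEpi.desc (π v q).left ψ.left hdesc
  have hg0 : (π v q).left ≫ g0 = ψ.left := EffectiveEpi.fac _ _ _
  have hg0w : g0 ≫ G.hom = Y.hom := by
    rw [← cancel_epi (π v q).left, ← Category.assoc, hg0, Over.w ψ, Over.w (π v q)]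
  let g : Y ⟶ G := Over.homMk g0 hg0w
  have hg : π v q ≫ g = ψ := Over.OverMorphism.ext hg0
  -- step 7: check on the fibre
  refine ⟨g, ?_⟩
  simp only
  haveI := epi_genMap j (π v q)
  rw [← cancel_epi (genMap j (π v q)), ← Category.assoc, genMap_ε, Category.assoc, hg, hψε]

theorem nProp_of_extension (hker : AlgGrp.IsKernel i q) (hG' : NProp j G') (hG'' : NProp j G'')
    [Smooth G'.hom] [LocallyOfFinitePresentation G.hom] [LocallyOfFiniteType G''.hom]
    [Flat q.left] [Surjective q.left] : NProp j G := by
  haveI := smooth_of_isKernel hker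
  intro Y hY
  exact ⟨injective_of j hker hG' hG'' Y hY, surjective_of j hker hG' hG'' Y hY⟩

end Main

end Groth.Agent.Lib.Helper24.NeronExt
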